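import Groth.Prelude.Def_W4c6nonredquotmfGoodQuot
import Groth.Agent.OrbitLib.Basic
import Groth.Agent.AVRigidLib.Core
import Mathlib.AlgebraicGeometry.AlgClosed.Basic
import Mathlib.Topology.NoetherianSpace

/-!
# Good quotients: orbits in fibres

Rational points, invariant sets, closed orbits in the fibres of a good quotient.
-/

set_option autoImplicit false
set_option backward.isDefEq.respectTransparency false
set_option backward.isDefEq.respectTransparency.types false

universe u

open CategoryTheory MonoidalCategory CartesianMonoidalCategory MonObj AlgebraicGeometry Topology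
open TopologicalSpace

noncomputable section

namespace NRQuotLib

variable {k : Type u} [Field k]

/-- The point underlying a rational point. -/
abbrev pt {X : Over (Spec (CommRingCat.of k))} (x : 𝟙_ (Over (Spec (CommRingCat.of k))) ⟶ X) : X.left :=
  x.left (IsLocalRing.closedPoint k)

theorem range_eq_pt {X : Over (Spec (CommRingCat.of k))} (x : 𝟙_ (Over (Spec (CommRingCat.of k))) ⟶ X) :
    Set.range x.left = {pt x} :=
  haveI : Nonempty ↥(𝟙_ (Over (Spec (CommRingCat.of k)))).left := inferInstanceAs (Nonempty (PrimeSpectrum k))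
  Set.range_eq_singleton (y := pt x)
    (fun z => congrArg (fun w => x.left w) (Subsingleton.elim (α := PrimeSpectrum k) z _))

/-- Rational points are closed. -/
theorem isClosed_pt {X : Over (Spec (CommRingCat.of k))} (x : 𝟙_ (Over (Spec (CommRingCat.of k))) ⟶ X) :
    IsClosed {pt x} := by
  haveI : Subsingleton ↥(Spec (CommRingCat.of k)) := inferInstanceAs (Subsingleton (PrimeSpectrum k))
  have hc : IsClosedImmersion x.left :=
    isClosedImmersion_of_comp_eq_id (Y := Spec (CommRingCat.of k)) X.hom x.left (Over.w x)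
  have h := hc.base_closed.isClosed_range
  rwa [range_eq_pt] at h

theorem exists_pt [IsAlgClosed k] {X : Over (Spec (CommRingCat.of k))} [LocallyOfFiniteType X.hom] {z : X.left}
    (hz : IsClosed {z}) : ∃ x : 𝟙_ (Over (Spec (CommRingCat.of k))) ⟶ X, pt x = z :=
  ⟨Over.homMk (pointOfClosedPoint X.hom z hz) (pointOfClosedPoint_comp X.hom z hz),
    pointOfClosedPoint_apply X.hom z hz _⟩

theorem exists_pt_mem [IsAlgClosed k] {X : Over (Spec (CommRingCat.of k))} [LocallyOfFiniteType X.hom]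
    {Z : Set X.left} (hne : Z.Nonempty) (hZ : IsClosed Z) :
    ∃ x : 𝟙_ (Over (Spec (CommRingCat.of k))) ⟶ X, pt x ∈ Z := by
  haveI : JacobsonSpace X.left := LocallyOfFiniteType.jacobsonSpace (Y := Spec _) X.hom
  obtain ⟨z, hzZ, hz⟩ := nonempty_inter_closedPoints hne hZ.isLocallyClosed
  obtain ⟨x, hx⟩ := exists_pt (X := X) hz
  exact ⟨x, hx ▸ hzZ⟩

variable {G X Y : Over (Spec (CommRingCat.of k))} [GrpObj G] (a : AlgGrp.Action G X)

theorem pt_mem_orbit (x : 𝟙_ (Over (Spec (CommRingCat.of k))) ⟶ X) : pt x ∈ OrbitLib.orbit a x := by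
  have h1 : η[G] ≫ a.orbitMap x = x := by
    have h0 : η[G] = (1 : 𝟙_ (Over (Spec (CommRingCat.of k))) ⟶ G) := by
      rw [Hom.one_def, toUnit_unique (toUnit _) (𝟙 _), Category.id_comp]
    rw [OrbitLib.comp_orbitMap, toUnit_unique (toUnit _) (𝟙 _), Category.id_comp, h0, GrpShear.lift_one_act]
  exact ⟨η[G].left (IsLocalRing.closedPoint k), by
    rw [← Scheme.Hom.comp_apply, ← Over.comp_left, h1]⟩

/-- A rational point of an orbit is a translate by a rational point of the group. -/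
theorem exists_translate [IsAlgClosed k] [LocallyOfFiniteType G.hom]
    (x z : 𝟙_ (Over (Spec (CommRingCat.of k))) ⟶ X) (hz : pt z ∈ OrbitLib.orbit a x) :
    ∃ g : 𝟙_ (Over (Spec (CommRingCat.of k))) ⟶ G, lift g x ≫ a.act = z := by
  obtain ⟨g₀, hg₀⟩ := hz
  obtain ⟨g, hg⟩ := exists_pt_mem (X := G) (Z := (a.orbitMap x).left ⁻¹' {pt z}) ⟨g₀, hg₀⟩
    ((isClosed_pt z).preimage (a.orbitMap x).left.continuous)
  refine ⟨g, ?_⟩
  have h : g ≫ a.orbitMap x = z := AVRigidLib.ext_pt hg
  rw [OrbitLib.comp_orbitMap, toUnit_unique (toUnit _) (𝟙 _), Category.id_comp] at h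
  exact h

/-- Two points with intersecting orbits are translates. -/
theorem exists_translate_of_inter [IsAlgClosed k] [LocallyOfFiniteType G.hom] [LocallyOfFiniteType X.hom]
    (x x' : 𝟙_ (Over (Spec (CommRingCat.of k))) ⟶ X) (hc : IsClosed (OrbitLib.orbit a x))
    (hc' : IsClosed (OrbitLib.orbit a x')) (hne : (OrbitLib.orbit a x ∩ OrbitLib.orbit a x').Nonempty) :
    ∃ g : 𝟙_ (Over (Spec (CommRingCat.of k))) ⟶ G, lift g x ≫ a.act = x' := by
  obtain ⟨z, hz, hz'⟩ := exists_pt_mem hne (hc.inter hc')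
  obtain ⟨g, hg⟩ := exists_translate a x z hz
  obtain ⟨g', hg'⟩ := exists_translate a x' z hz'
  refine ⟨g'⁻¹ * g, ?_⟩
  rw [GrpShear.lift_mul_act, hg, ← hg', ← GrpShear.lift_mul_act, inv_mul_cancel, GrpShear.lift_one_act]

/-- Stability of a set under the action is invariance. -/
theorem invariant_of_isInvariantSet {W : Set X.left} (h : NRQuot.IsInvariantSet a W) :
    OrbitLib.Invariant a W := by
  refine Set.Subset.antisymm (fun p hp => ?_) (fun p hp => h p hp)
  let i : G ⊗ X ⟶ G ⊗ X := lift (fst G X)⁻¹ a.act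
  have e1 : i ≫ snd G X = a.act := lift_snd _ _
  have e2 : i ≫ a.act = snd G X := by
    have e : lift (fst G X)⁻¹ (lift (fst G X) (snd G X) ≫ a.act) ≫ a.act = snd G X := by
      rw [← GrpShear.lift_mul_act, inv_mul_cancel, GrpShear.lift_one_act]
    rwa [lift_fst_snd, Category.id_comp] at e
  have hi : (snd G X).left (i.left p) ∈ W := by
    rw [← Scheme.Hom.comp_apply, ← Over.comp_left, e1]
    exact hp
  have := h _ hi
  rwa [← Scheme.Hom.comp_apply, ← Over.comp_left, e2] at this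

theorem isInvariantSet_of_invariant {W : Set X.left} (h : OrbitLib.Invariant a W) :
    NRQuot.IsInvariantSet a W :=
  fun _ hp => h.symm.subset hp

theorem invariant_preimage {φ : X ⟶ Y} (hφ : GIT.IsInvariant a φ) (S : Set Y.left) :
    OrbitLib.Invariant a (φ.left ⁻¹' S) := by
  ext p
  simp only [Set.mem_preimage, ← Scheme.Hom.comp_apply, hφ.left]

/-- Orbits in a scheme locally of finite type over a field are locally closed. -/
theorem isLocallyClosed_orbit [LocallyOfFiniteType G.hom] [QuasiCompact G.hom] [LocallyOfFiniteType X.hom]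
    (x : 𝟙_ (Over (Spec (CommRingCat.of k))) ⟶ X) : IsLocallyClosed (OrbitLib.orbit a x) := by
  haveI : CompactSpace G.left := QuasiCompact.compactSpace_of_compactSpace G.hom
  haveI : IsLocallyNoetherian X.left := LocallyOfFiniteType.isLocallyNoetherian X.hom
  obtain ⟨V, hV, hxV, -⟩ := exists_isAffineOpen_mem_and_subset (U := (⊤ : X.left.Opens)) (x := pt x) trivial
  haveI : IsAffine V.toScheme := hV
  haveI : IsNoetherian V.toScheme := { }
  set f := (a.orbitMap x).left with hf
  haveI : LocallyOfFiniteType (f ≫ X.hom) := by rw [hf, Over.w]; infer_instance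
  haveI : LocallyOfFiniteType f := locallyOfFiniteType_of_comp f X.hom
  haveI : QuasiCompact f := quasiCompact_of_compactSpace _
  haveI : LocallyOfFiniteType (f ∣_ V) :=
    IsZariskiLocalAtTarget.restrict (P := @LocallyOfFiniteType) inferInstance V
  haveI : QuasiCompact (f ∣_ V) := IsZariskiLocalAtTarget.restrict (P := @QuasiCompact) inferInstance V
  have hC : IsConstructible (Set.range (f ∣_ V)) := by
    rw [← Set.image_univ]
    exact (f ∣_ V).isConstructible_image IsConstructible.univ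
  obtain ⟨P, hPf, hP, hPC⟩ := SweepSix.exists_isLocallyClosed_pieces hC
  have hrange : V.ι '' Set.range (f ∣_ V) = OrbitLib.orbit a x ∩ V := by
    rw [← Set.range_comp, ← TopCat.coe_comp, ← Scheme.Hom.comp_base, morphismRestrict_ι,
      Scheme.Hom.comp_base, TopCat.coe_comp, Set.range_comp, Scheme.Opens.range_ι]
    exact Set.image_preimage_eq_range_inter.trans rfl
  let Q : Finset (Set X.left) := (hPf.image (fun p => V.ι '' p)).toFinset
  have hQ : (⋃₀ (Q : Set (Set X.left))) = OrbitLib.orbit a x ∩ V := by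
    rw [Set.Finite.coe_toFinset, ← hrange, hPC, Set.image_sUnion]
  obtain ⟨U, hU, hne, hUC⟩ := OrbitLib.exists_open_inter_closure Q
    (fun q hq => by
      obtain ⟨p, hp, rfl⟩ := (Set.Finite.mem_toFinset _).mp hq
      exact (hP p hp).image V.ι.isOpenEmbedding.isInducing V.ι.isOpenEmbedding.isOpen_range.isLocallyClosed)
    (hQ ▸ ⟨pt x, pt_mem_orbit a x, hxV⟩)
  rw [hQ] at hne hUC
  obtain ⟨z, hzU, hzC, hzV⟩ := hne
  refine OrbitLib.isLocallyClosed_orbit_of_open a x (U := U ∩ V) (hU.inter V.isOpen) ⟨z, ⟨hzU, hzV⟩, hzC⟩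
    fun w hw => ?_
  obtain ⟨⟨hwU, hwV⟩, hwC⟩ := hw
  have h1 : w ∈ closure ((V : Set X.left) ∩ OrbitLib.orbit a x) := V.isOpen.inter_closure ⟨hwV, hwC⟩
  rw [Set.inter_comm] at h1
  exact (hUC ⟨hwU, h1⟩).1

variable {a} {φ : X ⟶ Y}

theorem surjective (h : NRQuot.IsGoodQuot a φ) : Function.Surjective φ.left := by
  intro y
  have e := h.inter PEmpty (fun j => j.elim) (fun j => j.elim) (fun j => j.elim)
  rw [Set.iInter_of_empty, Set.iInter_of_empty] at e
  obtain ⟨z, -, hz⟩ := e.symm.subset (Set.mem_univ y)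
  exact ⟨z, hz⟩

theorem inter_nonempty (h : NRQuot.IsGoodQuot a φ) {W₁ W₂ : Set X.left} (h₁ : IsClosed W₁)
    (i₁ : OrbitLib.Invariant a W₁) (h₂ : IsClosed W₂) (i₂ : OrbitLib.Invariant a W₂) {y : Y.left}
    (y₁ : y ∈ φ.left '' W₁) (y₂ : y ∈ φ.left '' W₂) : (W₁ ∩ W₂).Nonempty := by
  let W : ULift.{u} Bool → Set X.left := fun j => if j.down then W₁ else W₂
  have e := h.inter (ULift.{u} Bool) W
    (fun j => by cases hj : j.down <;> simp only [W, hj] <;> assumption)
    (fun j => isInvariantSet_of_invariant a (by cases hj : j.down <;> simp only [W, hj] <;> assumption))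
  have hy : y ∈ ⋂ j, φ.left '' W j := Set.mem_iInter.mpr fun j => by
    cases hj : j.down <;> simp only [W, hj] <;> assumption
  obtain ⟨z, hz, -⟩ := e.symm.subset hy
  exact ⟨z, Set.mem_iInter.mp hz ⟨true⟩, Set.mem_iInter.mp hz ⟨false⟩⟩

/-- The orbit closure lies in the fibre. -/
theorem closure_orbit_subset (h : NRQuot.IsGoodQuot a φ)
    (x : 𝟙_ (Over (Spec (CommRingCat.of k))) ⟶ X) :
    closure (OrbitLib.orbit a x) ⊆ φ.left ⁻¹' {pt (x ≫ φ)} := by
  refine closure_minimal ?_ ((isClosed_pt _).preimage φ.left.continuous)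
  refine OrbitLib.orbit_subset a x (invariant_preimage a h.inv _) ?_
  rw [range_eq_pt, Set.singleton_subset_iff]
  exact rfl

theorem mem_image_closure_orbit (h : NRQuot.IsGoodQuot a φ)
    (x : 𝟙_ (Over (Spec (CommRingCat.of k))) ⟶ X) :
    pt (x ≫ φ) ∈ φ.left '' closure (OrbitLib.orbit a x) :=
  ⟨pt x, subset_closure (pt_mem_orbit a x), rfl⟩

theorem closure_inter_nonempty_iff (h : NRQuot.IsGoodQuot a φ)
    (x₁ x₂ : 𝟙_ (Over (Spec (CommRingCat.of k))) ⟶ X) :
    (closure (OrbitLib.orbit a x₁) ∩ closure (OrbitLib.orbit a x₂)).Nonempty ↔ x₁ ≫ φ = x₂ ≫ φ := by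
  constructor
  · rintro ⟨z, hz₁, hz₂⟩
    refine AVRigidLib.ext_pt ?_
    exact (closure_orbit_subset h x₁ hz₁).symm.trans (closure_orbit_subset h x₂ hz₂)
  · intro e
    exact inter_nonempty h isClosed_closure ((OrbitLib.invariant_orbit a x₁).closure a) isClosed_closure
      ((OrbitLib.invariant_orbit a x₂).closure a) (mem_image_closure_orbit h x₁)
      (e ▸ mem_image_closure_orbit h x₂)

theorem exists_translate_of_eq [IsAlgClosed k] [LocallyOfFiniteType G.hom] [LocallyOfFiniteType X.hom]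
    (h : NRQuot.IsGoodQuot a φ) (x x' : 𝟙_ (Over (Spec (CommRingCat.of k))) ⟶ X)
    (hc : IsClosed (OrbitLib.orbit a x)) (hc' : IsClosed (OrbitLib.orbit a x')) (e : x ≫ φ = x' ≫ φ) :
    ∃ g : 𝟙_ (Over (Spec (CommRingCat.of k))) ⟶ G, lift g x ≫ a.act = x' := by
  have hne := (closure_inter_nonempty_iff h x x').mpr e
  rw [hc.closure_eq, hc'.closure_eq] at hne
  exact exists_translate_of_inter a x x' hc hc' hne

/-- Every fibre over a rational point contains a closed orbit. -/
theorem exists_closed_orbit [IsAlgClosed k] [LocallyOfFiniteType G.hom] [QuasiCompact G.hom]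
    [LocallyOfFiniteType X.hom] (h : NRQuot.IsGoodQuot a φ)
    (y : 𝟙_ (Over (Spec (CommRingCat.of k))) ⟶ Y) :
    ∃ x : 𝟙_ (Over (Spec (CommRingCat.of k))) ⟶ X, x ≫ φ = y ∧ IsClosed (OrbitLib.orbit a x) := by
  classical
  haveI := h.affine
  haveI : IsLocallyNoetherian X.left := LocallyOfFiniteType.isLocallyNoetherian X.hom
  obtain ⟨V, hV, hyV, -⟩ := exists_isAffineOpen_mem_and_subset (U := (⊤ : Y.left.Opens)) (x := pt y) trivial
  haveI : IsAffine (φ.left ⁻¹ᵁ V).toScheme := hV.preimage φ.left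
  haveI : IsNoetherian (φ.left ⁻¹ᵁ V).toScheme := { }
  have hsub : φ.left ⁻¹' {pt y} ⊆ φ.left ⁻¹' (V : Set Y.left) := fun z hz => by
    have e : φ.left z = pt y := hz
    rw [Set.mem_preimage, e]
    exact hyV
  let T : Set (Closeds (φ.left ⁻¹ᵁ V).toScheme) :=
    {C | ∃ W : Set X.left, IsClosed W ∧ OrbitLib.Invariant a W ∧ W.Nonempty ∧ W ⊆ φ.left ⁻¹' {pt y} ∧
      (C : Set (φ.left ⁻¹ᵁ V).toScheme) = (φ.left ⁻¹ᵁ V).ι ⁻¹' W}
  have hT : T.Nonempty := ⟨⟨_, ((isClosed_pt y).preimage φ.left.continuous).preimage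
    (φ.left ⁻¹ᵁ V).ι.continuous⟩, φ.left ⁻¹' {pt y}, (isClosed_pt y).preimage φ.left.continuous,
    invariant_preimage a h.inv _, surjective h (pt y), subset_rfl, rfl⟩
  obtain ⟨C, ⟨W, hWc, hWi, hWne, hWy, hCW⟩, hmin⟩ := wellFounded_lt.has_min T hT
  obtain ⟨x, hx⟩ := exists_pt_mem hWne hWc
  have hcl : closure (OrbitLib.orbit a x) ⊆ W := closure_minimal (OrbitLib.orbit_subset a x hWi
    (by rw [range_eq_pt]; exact Set.singleton_subset_iff.mpr hx)) hWc
  refine ⟨x, AVRigidLib.ext_pt (hWy hx), ?_⟩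
  set R := closure (OrbitLib.orbit a x) \ OrbitLib.orbit a x with hR
  have hRc : IsClosed R := by
    have h1 := (isLocallyClosed_orbit a x).isOpen_coborder
    rw [coborder, isOpen_compl_iff] at h1
    exact h1
  have hRi : OrbitLib.Invariant a R :=
    ((OrbitLib.invariant_orbit a x).closure a).diff a (OrbitLib.invariant_orbit a x)
  have hRsub : R ⊆ W := fun z hz => hcl hz.1
  by_contra hnc
  have hRne : R.Nonempty := by
    by_contra he
    apply hnc
    rw [Set.not_nonempty_iff_eq_empty, hR, Set.sdiff_eq_empty] at he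
    exact isClosed_of_closure_subset he
  have hD : (⟨_, hRc.preimage (φ.left ⁻¹ᵁ V).ι.continuous⟩ : Closeds (φ.left ⁻¹ᵁ V).toScheme) ∈ T :=
    ⟨R, hRc, hRi, hRne, hRsub.trans hWy, rfl⟩
  refine hmin _ hD (lt_of_le_of_ne (fun z hz => ?_) ?_)
  · exact (Set.ext_iff.mp hCW z).mpr (hRsub hz)
  · intro e
    obtain ⟨w, hw⟩ : pt x ∈ Set.range (φ.left ⁻¹ᵁ V).ι := by
      rw [Scheme.Opens.range_ι]
      exact hsub (hWy hx)
    have h2 : w ∈ (C : Set (φ.left ⁻¹ᵁ V).toScheme) := by
      rw [hCW, Set.mem_preimage, hw]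
      exact hx
    rw [← e] at h2
    exact (show pt x ∈ R from hw ▸ h2).2 (pt_mem_orbit a x)

end NRQuotLib
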